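import Mathlib
import Cfsg.Agent.H459.Inv.Tools
import Cfsg.Agent.H465.Red
import Cfsg.Agent.SignalizersComponents.LayerBasic
import Cfsg.Agent.H823.NfTwF_m3
import Cfsg.Agent.FastGrp
import Cfsg.Agent.Prune
set_option linter.all false

section
prune_inst 0x7f00000000000000000000000000000000000000000000000000000000000000000000000000000000000000000000000000000000000000000000000000000000000000000000000000000000000000003fffffffffffffffffffffffffffbeffbdffffffff

-- part: H459/Inv/Par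
section
set_option linter.all false
open scoped Cfsg.Agent.FastGrp

-- part: H459/Inv/Sec
section
/-!
# Sections (helper459, S3830)

* `Five` : every non-abelian simple group has five elements of square one generating a non-solvable group;
* `exists_inv` : `Q` without solvable radical, `x ≠ 1` an automorphism of order `p ≥ 5`: some involution `z` of `Q` with
  `orb x z` non-solvable (induction hypothesis for smaller simple groups);
* `trivial_of_lift` : `M` a proper invariant subgroup such that the involutions of `M / Rad M` lift to `M`: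
  `NS x` or `x` acts trivially on `M / Rad M`; `rco_of_not_ns`: `¬ NS x → RCO x`.
-/

set_option autoImplicit false
set_option linter.unusedSectionVars false

namespace Cfsg.Agent.H459.Inv.Sec

open Cfsg Subgroup Cfsg.Agent.H459.Rad Cfsg.Agent.H459.Inv Cfsg.Agent.SignalizersComponents.ComponentExists
open Cfsg.Agent.SignalizersComponents.Components Cfsg.Agent.H459.Reduce

universe u

/-- five elements of square one generating a non-solvable group -/
def Five : Prop :=
  ∀ (L : Type u) [Group L] [Finite L] [IsSimpleGroup L], ¬ IsMulCommutative L →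
    ∃ y : Fin 5 → L, (∀ i, y i * y i = 1) ∧ ¬ Group.IsSolvable ↥(closure (Set.range y))

section Moved

variable {Q : Type*} [Group Q] [Finite Q]

theorem mem_map_pow (x : MulAut Q) (L : Subgroup Q) (m : ℕ) {l : Q} (hl : l ∈ L) :
    (x ^ m) l ∈ L.map (x ^ m).toMonoidHom := ⟨l, hl, rfl⟩

/-- a component moved by `x` -/
theorem moved (hR : solvableRadical Q = ⊥) {p : ℕ} [hp : Fact p.Prime] (hp5 : 5 ≤ p) {x : MulAut Q} (hx : x ^ p = 1)
    {L : Subgroup Q} (hL : IsComponent L) (hm : ¬ ∀ l ∈ L, x l ∈ L) {y : Fin 5 → L} (hy : ∀ i, y i * y i = 1)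
    (hns : ¬ Group.IsSolvable ↥(closure (Set.range y))) : ∃ z : Q, orderOf z = 2 ∧ ¬ Group.IsSolvable ↥(orb x z) := by
  have hcen := component_center hR hL
  set N := normalizer (L : Set Q) with hN
  set ρ : N →* MulAut L := L.normalizerMonoidHom with hρ
  have hLN : L ≤ N := le_normalizer
  have hinj : Function.Injective (MulAut.conj : L →* MulAut L) := CycFalse.conj_injective hcen
  have hρL : ∀ l : L, ρ ⟨l, hLN l.2⟩ = MulAut.conj l := by
    intro l
    ext y
    rfl
  have hρC : ∀ (y : Q) (hy : y ∈ N), (∀ l ∈ L, y * l = l * y) → ρ ⟨y, hy⟩ = 1 := by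
    intro y hy hc
    ext l
    change y * l * y⁻¹ = l
    rw [hc l l.2]; group
  have hcN : ∀ y : Q, (∀ l ∈ L, y * l = l * y) → y ∈ N := by
    intro y hy
    rw [hN, Subgroup.mem_normalizer_iff]
    intro l
    constructor
    · intro hl
      rw [hy l hl]; simpa using hl
    · intro hl
      have h1 := hy _ hl
      have h2 : y * l * y⁻¹ = l := by
        have h3 : y * (y * l * y⁻¹) = (y * l * y⁻¹) * y := h1
        have h4 : y * (y * l * y⁻¹) = y * l := by rw [h3]; group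
        exact mul_left_cancel h4
      rwa [h2] at hl
  -- the images of `L`
  have hne : ∀ m : ℕ, ¬ p ∣ m → L.map (x ^ m).toMonoidHom ≠ L := by
    intro m hm' he
    apply hm
    have hcop : m.Coprime p := ((Nat.Prime.coprime_iff_not_dvd hp.out).2 hm').symm
    obtain ⟨k, hk⟩ := Nat.exists_mul_mod_eq_one_of_coprime hcop hp.out.one_lt
    have h1 : ∀ j : ℕ, ∀ l ∈ L, ((x ^ m) ^ j) l ∈ L := by
      intro j
      induction j with
      | zero => intro l hl; simpa using hl
      | succ j ih =>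
        intro l hl
        rw [pow_succ', MulAut.mul_apply]
        have := mem_map_pow x L m (ih l hl)
        rwa [he] at this
    have h2 : (x ^ m) ^ k = x := by
      rw [← pow_mul, ← Nat.div_add_mod (m * k) p, hk.2, pow_add, pow_mul, hx, one_pow, one_mul, pow_one]
    intro l hl
    have := h1 k l hl
    rwa [h2] at this
  have hcomm : ∀ m : ℕ, ¬ p ∣ m → ∀ a ∈ L, ∀ l ∈ L, (x ^ m) a * l = l * (x ^ m) a := by
    intro m hm' a ha l hl
    have h1 := component_le_centralizer_of_ne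
      (Cfsg.Agent.SignalizersComponents.LayerBasic.isComponent_map_equiv (x ^ m) hL) hL (hne m hm') (mem_map_pow x L m ha)
    exact (mem_centralizer_iff.1 h1 l hl).symm
  -- the element
  set z : Q := (x ^ 0) (y 0) * (x ^ 1) (y 1) * (x ^ 2) (y 2) * (x ^ 3) (y 3) * (x ^ 4) (y 4) with hz
  have hact : ∀ j : Fin 5, ∃ h : (x ^ (p - j)) z ∈ N, ρ ⟨_, h⟩ = MulAut.conj (y j) := by
    intro j
    have hfac : ∀ i : Fin 5, ∃ h : (x ^ (p - j + i)) (y i : Q) ∈ N,
        ρ ⟨_, h⟩ = if i = j then MulAut.conj (y j) else 1 := by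
      intro i
      by_cases hij : i = j
      · subst hij
        have e : p - (i : ℕ) + i = p := by have := i.2; omega
        have e1 : (x ^ (p - (i : ℕ) + i)) (y i : Q) = y i := by rw [e, hx]; rfl
        refine ⟨by rw [e1]; exact hLN (y i).2, ?_⟩
        rw [if_pos rfl, ← hρL]
        congr 1
        exact Subtype.ext e1
      · have h1 : ¬ p ∣ p - (j : ℕ) + i := by
          intro hd
          have hi := i.2
          have hj := j.2
          rcases lt_or_gt_of_ne (fun h => hij (Fin.ext h) : (i : ℕ) ≠ j) with h2 | h2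
          · have h3 : p - (j : ℕ) + i < p := by omega
            have h4 := Nat.le_of_dvd (by omega) hd
            omega
          · have h3 : p - (j : ℕ) + i = p + (i - j) := by omega
            rw [h3] at hd
            have h4 := (Nat.dvd_add_right dvd_rfl).1 hd
            have h5 := Nat.le_of_dvd (by omega) h4
            omega
        refine ⟨hcN _ (hcomm _ h1 _ (y i).2), ?_⟩
        rw [if_neg hij]
        exact hρC _ _ (hcomm _ h1 _ (y i).2)
    have hdec : (x ^ (p - j)) z = (x ^ (p - j + (0 : Fin 5))) (y 0 : Q) * (x ^ (p - j + (1 : Fin 5))) (y 1 : Q) *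
        (x ^ (p - j + (2 : Fin 5))) (y 2 : Q) * (x ^ (p - j + (3 : Fin 5))) (y 3 : Q) *
        (x ^ (p - j + (4 : Fin 5))) (y 4 : Q) := by
      rw [hz, map_mul, map_mul, map_mul, map_mul]
      simp only [← MulAut.mul_apply, ← pow_add]
      rfl
    obtain ⟨m0, r0⟩ := hfac 0
    obtain ⟨m1, r1⟩ := hfac 1
    obtain ⟨m2, r2⟩ := hfac 2
    obtain ⟨m3, r3⟩ := hfac 3
    obtain ⟨m4, r4⟩ := hfac 4
    have hmem : (x ^ (p - j)) z ∈ N := by
      rw [hdec]
      exact mul_mem (mul_mem (mul_mem (mul_mem m0 m1) m2) m3) m4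
    refine ⟨hmem, ?_⟩
    have he : (⟨(x ^ (p - j)) z, hmem⟩ : N) = ⟨_, m0⟩ * ⟨_, m1⟩ * ⟨_, m2⟩ * ⟨_, m3⟩ * ⟨_, m4⟩ := Subtype.ext hdec
    rw [he, map_mul, map_mul, map_mul, map_mul, r0, r1, r2, r3, r4]
    fin_cases j <;> simp
  -- `orb x z` is not solvable
  have hnz : ¬ Group.IsSolvable ↥(orb x z) := by
    intro hS
    apply hns
    set S := orb x z with hSd
    have h3 : Group.IsSolvable ↥((S.subgroupOf N).map ρ) := by
      refine isSolvable_map ?_ _
      let f : ↥(S.subgroupOf N) →* ↥S := (N.subtype.comp (S.subgroupOf N).subtype).codRestrict S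
        fun s => s.2
      refine Group.isSolvable_of_isSolvable_injective (f := f) ?_
      intro s t hst
      have h4 : ((s : N) : Q) = ((t : N) : Q) := congrArg (fun z : ↥S => (z : Q)) hst
      exact Subtype.ext (Subtype.ext h4)
    have h4 : (closure (Set.range y)).map (MulAut.conj : L →* MulAut L) ≤ (S.subgroupOf N).map ρ := by
      rw [MonoidHom.map_closure, closure_le]
      rintro _ ⟨_, ⟨j, rfl⟩, rfl⟩
      obtain ⟨h5, h6⟩ := hact j
      exact ⟨⟨_, h5⟩, pow_mem_orb x z _, h6⟩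
    have h5 := isSolvable_of_le h4 h3
    exact Group.isSolvable_of_isSolvable_injective
      (f := ((closure (Set.range y)).equivMapOfInjective _ hinj).toMonoidHom) (MulEquiv.injective _)
  refine ⟨z, ?_, hnz⟩
  -- `z` is an involution
  have hsq : ∀ i : Fin 5, ∀ m : ℕ, ((x ^ m) (y i : Q)) ^ 2 = 1 := by
    intro i m
    rw [sq, ← map_mul, ← Subgroup.coe_mul, hy, Subgroup.coe_one, map_one]
  have hcc : ∀ i j : Fin 5, ∀ m n : ℕ, m < n → n < 5 → Commute ((x ^ m) (y i : Q)) ((x ^ n) (y j : Q)) := by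
    intro i j m n hmn hn
    have h1 := hcomm (n - m) (fun hd => by have := Nat.le_of_dvd (by omega) hd; omega) (y j) (y j).2 (y i) (y i).2
    have h2 := congrArg (x ^ m) h1
    rw [map_mul, map_mul, ← MulAut.mul_apply, ← pow_add, Nat.add_sub_cancel' hmn.le] at h2
    exact h2.symm
  have : Fact (Nat.Prime 2) := ⟨Nat.prime_two⟩
  apply orderOf_eq_prime
  · have c1 : Commute ((x ^ 0) (y 0 : Q)) ((x ^ 1) (y 1 : Q)) := hcc _ _ _ _ (by norm_num) (by norm_num)
    have c2 : Commute ((x ^ 0) (y 0 : Q) * (x ^ 1) (y 1 : Q)) ((x ^ 2) (y 2 : Q)) :=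
      (hcc _ _ _ _ (by norm_num) (by norm_num)).mul_left (hcc _ _ _ _ (by norm_num) (by norm_num))
    have c3 : Commute ((x ^ 0) (y 0 : Q) * (x ^ 1) (y 1 : Q) * (x ^ 2) (y 2 : Q)) ((x ^ 3) (y 3 : Q)) :=
      ((hcc _ _ _ _ (by norm_num) (by norm_num)).mul_left (hcc _ _ _ _ (by norm_num) (by norm_num))).mul_left
        (hcc _ _ _ _ (by norm_num) (by norm_num))
    have c4 : Commute ((x ^ 0) (y 0 : Q) * (x ^ 1) (y 1 : Q) * (x ^ 2) (y 2 : Q) * (x ^ 3) (y 3 : Q)) ((x ^ 4) (y 4 : Q)) :=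
      (((hcc _ _ _ _ (by norm_num) (by norm_num)).mul_left (hcc _ _ _ _ (by norm_num) (by norm_num))).mul_left
        (hcc _ _ _ _ (by norm_num) (by norm_num))).mul_left (hcc _ _ _ _ (by norm_num) (by norm_num))
    rw [hz, c4.mul_pow, c3.mul_pow, c2.mul_pow, c1.mul_pow]
    simp only [hsq, mul_one]
  · intro h1
    apply hnz
    have h2 : orb x z = ⊥ := by
      rw [eq_bot_iff]
      refine orb_le (fun m hm => ?_) (by rw [h1]; exact one_mem _)
      rw [mem_bot] at hm ⊢
      rw [hm, map_one]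
    rw [h2]
    infer_instance

end Moved

section Exists

/-- an automorphism fixing the components elementwise -/
theorem eq_one_of_comp {Q : Type*} [Group Q] [Finite Q] (hR : solvableRadical Q = ⊥) {x : MulAut Q}
    (h : ∀ L : Subgroup Q, IsComponent L → ∀ l ∈ L, x l = l) : x = 1 := by
  ext q
  rw [MulAut.one_apply]
  by_contra hne
  obtain ⟨L, hL, l, hl, hc⟩ := exists_component hR (x := q⁻¹ * x q) (fun h1 => hne (inv_mul_eq_one.1 h1).symm)
  apply hc
  have h1 := h _ (isComponent_conj q hL) (q * l * q⁻¹) ⟨l, hl, rfl⟩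
  rw [map_mul, map_mul, map_inv, h L hL l hl] at h1
  have h2 : q⁻¹ * (x q * l * (x q)⁻¹) * q = l := by rw [h1]; group
  calc q⁻¹ * x q * l = (q⁻¹ * (x q * l * (x q)⁻¹) * q) * (q⁻¹ * x q) := by group
    _ = l * (q⁻¹ * x q) := by rw [h2]

variable {p : ℕ} [hp : Fact p.Prime]

theorem exists_inv {n : ℕ} (hI : IH.{u} p n) (hF : Five.{u}) (hp5 : 5 ≤ p) {Q : Type u} [Group Q] [Finite Q]
    (hR : solvableRadical Q = ⊥) (hn : Nat.card Q < n) {x : MulAut Q} (hx : orderOf x = p) :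
    ∃ z : Q, orderOf z = 2 ∧ ¬ Group.IsSolvable ↥(orb x z) := by
  have hxp : x ^ p = 1 := by rw [← hx]; exact pow_orderOf_eq_one x
  have hx1 : x ≠ 1 := by
    rintro rfl
    rw [orderOf_one] at hx
    omega
  by_contra hcon
  apply hx1
  refine eq_one_of_comp hR fun L hL l hl => ?_
  by_contra hne
  apply hcon
  have hsim := component_simple hR hL
  have hns : ¬ Group.IsSolvable L := quasisimple_not_isSolvable hL.2
  have hna : ¬ IsMulCommutative L := fun h => hns (Group.isSolvable_of_comm fun a b => h.is_comm.comm a b)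
  by_cases hm : ∀ l ∈ L, x l ∈ L
  · have h1 : Nat.card L < n := (Subgroup.card_le_card_group L).trans_lt hn
    exact ns_iff.1 (ns_of_res hm (hI L hna h1 _ (orderOf_res hm hx ⟨l, hl, hne⟩)))
  · obtain ⟨y, hy, hy'⟩ := hF L hna
    exact moved hR hp5 hxp hL hm hy hy'

/-- the automorphism of `M / Rad M` -/
theorem exists_quot {K : Type*} [Group K] [Finite K] (x : MulAut K) {M : Subgroup K} (hM : ∀ m ∈ M, x m ∈ M) :
    ∃ x' : MulAut (M ⧸ solvableRadical M), ∀ m : M, x' (QuotientGroup.mk m) = QuotientGroup.mk (res x hM m) := by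
  have hchar : (solvableRadical M).Characteristic := (rad_spec M).1
  have h1 : (solvableRadical M).map (res x hM : M ≃* M).toMonoidHom = solvableRadical M :=
    characteristic_iff_map_eq.1 hchar _
  exact ⟨QuotientGroup.congr _ _ (res x hM) h1, fun m => rfl⟩

/-- **Sections.** -/
theorem trivial_of_lift {K : Type u} [Group K] [Finite K] (hI : IH.{u} p (Nat.card K)) (hF : Five.{u}) (hp5 : 5 ≤ p)
    {x : MulAut K} (hx : orderOf x = p) (hns : ¬ NS x) {M : Subgroup K} (hMt : M ≠ ⊤) (hM : ∀ m ∈ M, x m ∈ M)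
    (hlift : ∀ q : M ⧸ solvableRadical M, orderOf q = 2 → ∃ m : M, orderOf m = 2 ∧ (m : M ⧸ solvableRadical M) = q) :
    ∀ m ∈ M, m⁻¹ * x m ∈ radIn M := by
  obtain ⟨x', hx'⟩ := exists_quot x hM
  by_cases h1 : x' = 1
  · intro m hm
    have h2 := hx' ⟨m, hm⟩
    rw [h1, MulAut.one_apply, QuotientGroup.eq] at h2
    exact mem_radIn_coe.2 h2
  exfalso
  apply hns
  have hxp : x' ^ p = 1 := by
    ext q
    obtain ⟨m, rfl⟩ := QuotientGroup.mk_surjective q
    have h2 : ∀ n : ℕ, (x' ^ n) (m : M ⧸ solvableRadical M) = (((res x hM) ^ n) m : M) := by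
      intro n
      induction n with
      | zero => rfl
      | succ n ih => rw [pow_succ', pow_succ', MulAut.mul_apply, MulAut.mul_apply, ih, hx']
    rw [h2, MulAut.one_apply]
    congr 1
    apply Subtype.ext
    rw [res_pow, ← hx, pow_orderOf_eq_one]
    rfl
  have hcard : Nat.card (M ⧸ solvableRadical M) < Nat.card K := by
    refine lt_of_le_of_lt (Nat.card_le_card_of_surjective _ (QuotientGroup.mk'_surjective (solvableRadical M))) ?_
    refine lt_of_le_of_ne (Subgroup.card_le_card_group M) fun h2 => hMt ?_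
    exact Subgroup.eq_top_of_card_eq M h2
  obtain ⟨z, hz, hz'⟩ := exists_inv hI hF hp5 rad_quotient hcard (orderOf_eq_prime hxp h1)
  obtain ⟨m, hm, rfl⟩ := hlift z hz
  exact ns_of_hom hM (QuotientGroup.mk' (solvableRadical M)) x' (fun a => (hx' a).symm) hm hz'

theorem lift_of_odd {M : Type*} [Group M] [Finite M] (R : Subgroup M) [R.Normal] (hR : Odd (Nat.card R))
    (q : M ⧸ R) (hq : orderOf q = 2) : ∃ m : M, orderOf m = 2 ∧ (m : M ⧸ R) = q := by
  obtain ⟨m, rfl⟩ := QuotientGroup.mk_surjective q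
  have h1 : m ^ 2 ∈ R := by
    rw [← QuotientGroup.eq_one_iff, QuotientGroup.mk_pow, ← hq, pow_orderOf_eq_one]
  have h2 : Odd (orderOf (m ^ 2)) := Odd.of_dvd_nat hR (Subgroup.orderOf_dvd_natCard _ h1)
  set k := orderOf (m ^ 2) with hk'
  have h3 : ((m ^ k : M) : M ⧸ R) = m := by
    obtain ⟨j, hj⟩ := h2
    rw [QuotientGroup.mk_pow, hj, pow_succ, pow_mul, ← hq, pow_orderOf_eq_one, one_pow, one_mul]
  refine ⟨m ^ k, ?_, h3⟩
  have : Fact (Nat.Prime 2) := ⟨Nat.prime_two⟩
  apply orderOf_eq_prime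
  · rw [← pow_mul, mul_comm, pow_mul, hk', pow_orderOf_eq_one]
  · intro h5
    rw [h5, QuotientGroup.mk_one] at h3
    rw [← h3] at hq
    simp at hq

/-- **`¬ NS x → RCO x`.** -/
theorem rco_of_not_ns {K : Type u} [Group K] [Finite K] (hI : IH.{u} p (Nat.card K)) (hF : Five.{u}) (hp5 : 5 ≤ p)
    {x : MulAut K} (hx : orderOf x = p) (hns : ¬ NS x) : RCO x := fun _ hMt hM hodd =>
  trivial_of_lift hI hF hp5 hx hns hMt hM fun q hq => lift_of_odd _ hodd q hq

end Exists

end Cfsg.Agent.H459.Inv.Sec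
end

-- part: H459/Inv/Par
section
/-!
# Characteristic two: an automorphism normalising a `2`-subgroup (helper459, S3830)

* `RCP P x` : conjugates of `x` act trivially on `M / Rad M` for the invariant proper parabolic subgroups `M` with
  `Rad M ≤ B`;
* `exists_borel2`, `eq_one2` : `RCP P x`, `x` fixes a proper parabolic subgroup, characteristic two: `x = 1`;
* `lift_par` : the involutions of `P_J / Rad P_J` lift to `P_J` if `Rad P_J ≤ B`;
* `ns_of_fixR` : `FixR 2 x → NS x` for the groups with `HasFiltE 2`, from the induction hypothesis.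
-/

set_option autoImplicit false
set_option linter.unusedSectionVars false

namespace Cfsg.Agent.H459.Inv.Par

open Cfsg Subgroup Cfsg.Agent.H459.Rad Cfsg.Agent.H459.Inv Cfsg.Agent.H459.Gallery Cfsg.Agent.H459.NonEll
open Cfsg.Agent.H459.Iface Cfsg.Agent.H459.RgdRad Cfsg.Agent.H459.SolNode Cfsg.Agent.H459.NonFix
open Cfsg.Agent.Schreier.BNSch Cfsg.Agent.FixBN Cfsg.Agent.SignalizersComponents.ComponentExists

universe u

section Abstract

variable {K : Type*} [Group K] [Finite K] (P : BNPair K)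

/-- conjugates of `x` act trivially on `M / Rad M` for the invariant proper parabolic subgroups with `Rad M ≤ B` -/
def RCP (x : MulAut K) : Prop :=
  ∀ (g : K) (L : Set K), L ⊆ P.S → P.parabolic L ≠ ⊤ → Iv (cx x g) (P.parabolic L) →
    radIn (P.parabolic L) ≤ P.B → ∀ m ∈ P.parabolic L, m⁻¹ * cx x g m ∈ radIn (P.parabolic L)

/-- **From an invariant proper parabolic subgroup to an invariant Borel subgroup.** -/
theorem exists_borel2 {r p : ℕ} [Fact r.Prime] [Fact p.Prime] (U : Sylow r K)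
    (hU : normalizer ((U : Subgroup K) : Set K) = P.B) {x : MulAut K} (h : RCP P x) (hxp : x ^ p = 1)
    (hBs : Group.IsSolvable P.B) (hrig : Rig P p)
    (hidx : ∀ s ∈ P.S, Group.IsSolvable (P.parabolic {s}) → ¬ p ∣ P.B.relIndex (P.parabolic {s}))
    {J₀ : Set K} (hJ₀ : J₀ ⊆ P.S) (hne : J₀ ≠ P.S) {g₀ : K} (hg₀ : Iv (cx x g₀) (P.parabolic J₀)) :
    ∃ g, Iv (cx x g) P.B := by
  classical
  have hfin : Finite K := inferInstance
  obtain ⟨J, hJ⟩ := Set.exists_min_image {J : Set K | J ⊆ P.S ∧ J ≠ P.S ∧ ∃ g, Iv (cx x g) (P.parabolic J)}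
    Set.ncard (Set.toFinite _) ⟨J₀, hJ₀, hne, g₀, hg₀⟩
  obtain ⟨⟨hJS, hJne, g, hg⟩, hmin⟩ := hJ
  by_cases hJ0 : J = ∅
  · rw [hJ0, parabolic_empty] at hg
    exact ⟨g, hg⟩
  exfalso
  have hJn : J.Nonempty := Set.nonempty_iff_ne_empty.2 hJ0
  set y := cx x g with hy
  have hyp : y ^ p = 1 := by
    have e : y = (MulAut.conj g)⁻¹ * x * ((MulAut.conj g)⁻¹)⁻¹ := by rw [inv_inv]; rfl
    rw [e, conj_pow, hxp, mul_one, mul_inv_cancel]
  set M := P.parabolic J with hM
  have hBM : P.B ≤ M := B_le_parabolic P _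
  have hMt : M ≠ ⊤ := parabolic_ne_top P hJS hJne
  obtain ⟨L, hLJ, hLe, hLsol, hLc⟩ := radIn_sup P hBs hJS
  rcases Set.eq_empty_or_nonempty L with hL0 | ⟨s, hsL⟩
  · -- `Rad M ≤ B`
    rw [hL0, parabolic_empty] at hLe
    have hRB : radIn M ≤ P.B := by rw [← hLe]; exact le_sup_left
    have h1 : Iv y P.B := by
      intro b hb
      have h3 := h g J hJS hMt hg hRB b (hBM hb)
      have h4 : y b = b * (b⁻¹ * y b) := by group
      rw [h4]
      exact mul_mem hb (hRB h3)
    have h2 := hmin ∅ ⟨Set.empty_subset _, fun h => by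
      have h3 : J ⊆ ∅ := by rw [h]; exact hJS
      exact hJ0 (Set.subset_empty_iff.1 h3), g, by rw [parabolic_empty]; exact h1⟩
    rw [Set.ncard_empty] at h2
    have h3 := (Set.ncard_pos (Set.toFinite J)).2 hJn
    omega
  · -- an isolated solvable node
    have hsJ := hLJ hsL
    have hsS := hJS hsJ
    have hssol : Group.IsSolvable (P.parabolic {s}) :=
      isSolvable_of_le (parabolic_mono P (Set.singleton_subset_iff.2 hsL)) hLsol
    have hcomm : ∀ t ∈ J, t ≠ s → s * t * s⁻¹ * t⁻¹ ∈ P.B := fun t ht hts => hLc s hsL t ht (Ne.symm hts)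
    obtain ⟨m, hm, hmB⟩ := exists_conj_fix P U hU hBM hg
    set z := MulAut.conj m * y with hz
    have hzp : ∃ b ∈ P.B, z ^ p = MulAut.conj b := by
      obtain ⟨k, hk, hk'⟩ := conj_mul_pow m y hm hg p
      rw [hyp, mul_one] at hk'
      refine ⟨k, ?_, hk'⟩
      have h1 : ∀ n, Iv (z ^ n) P.B := by
        intro n
        induction n with
        | zero => intro a ha; exact ha
        | succ n ih =>
          intro a ha
          rw [pow_succ, MulAut.mul_apply]
          exact ih _ (hmB a ha)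
      have h2 : Iv (MulAut.conj k) P.B := by rw [← hk']; exact h1 p
      have h3 : k ∈ normalizer (P.B : Set K) := by
        rw [Subgroup.mem_normalizer_iff_map_conj_eq]
        exact h2.map_eq
      have h4 : normalizer (P.B : Set K) = P.B := by
        have := Cfsg.Agent.S0312.result P (J := ∅) (Set.empty_subset _)
        rwa [parabolic_empty] at this
      rwa [h4] at h3
    have hzs : ∀ L, L ⊆ P.S → Iv z (P.parabolic L) := fun L hL => iv_parabolic P hmB (hrig z hmB hzp) hL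
    obtain ⟨k, hk, h1⟩ := descend P hyp hJS hsJ hg hm hzs hcomm (hidx s hsS hssol)
    rw [hy, cx_cx] at h1
    have h2 := hmin (J \ {s}) ⟨Set.sdiff_subset.trans hJS, fun h => hJne (Set.Subset.antisymm hJS (h ▸ Set.sdiff_subset)),
      g * k, h1⟩
    have h3 : (J \ {s}).ncard < J.ncard := Set.ncard_sdiff_singleton_lt_of_mem hsJ (Set.toFinite _)
    omega

/-- **The gallery lemma**, with a hypothesis on the nodes. -/
theorem all_fixed2 {x : MulAut K}
    (hnode : ∀ g : K, Iv (cx x g) P.B → ∀ s ∈ P.S, ∀ k ∈ P.parabolic {s}, k⁻¹ * cx x g k ∈ P.B)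
    (hB : Iv x P.B) (g : K) : g⁻¹ * x g ∈ P.B := by
  have key : ∀ g : K, g⁻¹ * x g ∈ P.B → ∀ s ∈ P.S, ∀ k ∈ P.parabolic {s}, (g * k)⁻¹ * x (g * k) ∈ P.B := by
    intro g hg s hs k hk
    have h1 : Iv (cx x g) P.B := hB.cx hg
    have h2 := hnode g h1 s hs k hk
    rw [cx_apply'] at h2
    have h3 : (g * k)⁻¹ * x (g * k) = (k⁻¹ * ((g⁻¹ * x g) * x k * (g⁻¹ * x g)⁻¹)) * (g⁻¹ * x g) := by
      rw [map_mul]; group
    rw [h3]
    exact mul_mem h2 hg
  have hg : g ∈ closure ((P.B : Set K) ∪ P.S) := by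
    rw [Subgroup.closure_union, Subgroup.closure_eq, sup_closure_eq_top]
    exact mem_top g
  refine Subgroup.closure_induction_right (p := fun g _ => g⁻¹ * x g ∈ P.B) ?_ ?_ ?_ hg
  · simp
  · intro g _ y hy ih
    rcases hy with hy | hy
    · rw [map_mul]
      have : (g * y)⁻¹ * (x g * x y) = y⁻¹ * (g⁻¹ * x g) * x y := by group
      rw [this]
      exact mul_mem (mul_mem (inv_mem hy) ih) (hB y hy)
    · exact key g ih y hy y (mem_parabolic_self P y)
  · intro g _ y hy ih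
    rcases hy with hy | hy
    · rw [map_mul]
      have : (g * y⁻¹)⁻¹ * (x g * x y⁻¹) = y * (g⁻¹ * x g) * x y⁻¹ := by group
      rw [this]
      exact mul_mem (mul_mem hy ih) (hB _ (inv_mem hy))
    · exact key g ih y hy y⁻¹ (inv_mem (mem_parabolic_self P y))

/-- a nonsolvable minimal parabolic subgroup has its radical in `B` -/
theorem radIn_le_B (hBs : Group.IsSolvable P.B) {s : K} (hs : s ∈ P.S) (hsol : ¬ Group.IsSolvable (P.parabolic {s})) :
    radIn (P.parabolic {s}) ≤ P.B := by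
  set M := P.parabolic {s} with hM
  have hBM : P.B ≤ M := B_le_parabolic P _
  set L : Subgroup K := radIn M ⊔ P.B with hL
  have hLM : L ≤ M := sup_le (radIn_le M) hBM
  rcases eq_or_ne L P.B with h2 | h2
  · rw [← h2]; exact le_sup_left
  · exfalso
    have h3 : P.B < L := lt_of_le_of_ne le_sup_right (Ne.symm h2)
    have h4 : L = M := ((exists_eq_parabolic_iff P M).1 ⟨s, hs, rfl⟩).2 L h3 hLM
    apply hsol
    have h5 := Cfsg.Agent.H459.Gallery.isSolvable_sup (radIn_le M) hBM (fun g hg a ha => radIn_conj_mem hg ha)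
      (radIn_solvable M) hBs
    rw [← h4]
    exact h5

/-- **Characteristic two.** -/
theorem eq_one2 {p : ℕ} [Fact p.Prime] (hp5 : 5 ≤ p) (U : Sylow 2 K)
    (hU : normalizer ((U : Subgroup K) : Set K) = P.B) (hcov : ∀ b ∈ P.B, ∃ u ∈ (U : Subgroup K), u⁻¹ * b ∈ P.N)
    (hcore : P.B.normalCore = ⊥) {x : MulAut K} (h : RCP P x) (hxp : x ^ p = 1)
    (hBs : Group.IsSolvable P.B) (h2 : 2 ≤ P.S.ncard) (hrig : Rig P p)
    (hidx : ∀ s ∈ P.S, Group.IsSolvable (P.parabolic {s}) → ¬ p ∣ P.B.relIndex (P.parabolic {s}))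
    {M₀ : Subgroup K} (hBM : P.B ≤ M₀) (hM₀ : M₀ ≠ ⊤) {g₀ : K} (hg₀ : Iv (cx x g₀) M₀) : x = 1 := by
  classical
  have : Fact (Nat.Prime 2) := ⟨Nat.prime_two⟩
  obtain ⟨J₀, hJ₀, rfl⟩ := Cfsg.Agent.S0311.result P M₀ hBM
  have hJne : J₀ ≠ P.S := by
    rintro rfl
    exact hM₀ (by rw [← sup_closure_eq_top P]; rfl)
  obtain ⟨g, hg⟩ := exists_borel2 P U hU h hxp hBs hrig hidx hJ₀ hJne hg₀
  have hUB : (U : Subgroup K) ≤ P.B := by rw [← hU]; exact le_normalizer
  have hyp : ∀ g, (cx x g) ^ p = 1 := by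
    intro g
    have e : cx x g = (MulAut.conj g)⁻¹ * x * ((MulAut.conj g)⁻¹)⁻¹ := by rw [inv_inv]; rfl
    rw [e, conj_pow, hxp, mul_one, mul_inv_cancel]
  have hrig' : ∀ g : K, Iv (cx x g) P.B → ∀ s ∈ P.S, Iv (cx x g) (P.parabolic {s}) := fun g hgB s hs =>
    hrig _ hgB ⟨1, one_mem _, by rw [hyp, map_one]⟩ s hs
  have hne : ∀ s ∈ P.S, ({s} : Set K) ≠ P.S := by
    intro s hs he
    rw [← he, Set.ncard_singleton] at h2
    omega
  have hnode : ∀ g : K, Iv (cx x g) P.B → ∀ s ∈ P.S, ∀ k ∈ P.parabolic {s}, k⁻¹ * cx x g k ∈ P.B := by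
    intro g hgB s hs
    have hyM := hrig' g hgB s hs
    by_cases hsol : Group.IsSolvable (P.parabolic {s})
    · obtain ⟨V, S⟩ := sec_node P hs hsol
      obtain ⟨a, ha⟩ := index_node P hUB U.isPGroup' hcov hs
      refine fixed_of_num S (p := p) hgB hyM (hyp g) ?_
      obtain ⟨l, m, hl, hlm⟩ := exists_pow S (trans_node P hs) (B_le_parabolic P _)
      exact num_sol_two Fact.out hp5 hl ha hlm
    · intro k hk
      have h1 := radIn_le_B P hBs hs hsol
      exact h1 (h g {s} (Set.singleton_subset_iff.2 hs)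
        (parabolic_ne_top P (Set.singleton_subset_iff.2 hs) (hne s hs)) hyM h1 k hk)
  have hall := all_fixed2 P (x := cx x g) (fun g' hg' => by rw [cx_cx] at hg' ⊢; exact hnode _ hg') hg
  have h1 := eq_one P hcore hall
  have h3 : x = MulAut.conj g * cx x g * (MulAut.conj g)⁻¹ := by
    unfold cx
    group
  rw [h3, h1, mul_one, mul_inv_cancel]

end Abstract

section Rgd

open CoxeterSystem Cfsg.Agent.ChevalleyStructure.CoxeterGeom Cfsg.Agent.Tits.Roots
  Cfsg.Agent.Nodes.Reps Cfsg.Agent.Nodes.BNOf Cfsg.Agent.Nodes.LeviDec Cfsg.Agent.Nodes.Bruhat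
  Cfsg.Agent.KFacts.RgdCharP Cfsg.Agent.KFacts.RgdVJ

variable {G : Type*} [Group G] {I : Type*} [Fintype I] [DecidableEq I] {M : CoxeterMatrix I} {W : Type*} [Group W]
  {cs : CoxeterSystem M W} {C : I → I → ℤ} {h : IsCartan M C} {T : Subgroup G} {n : I → G}
  {X : (I → ℤ) → Subgroup G} [Finite W] [Finite G] (R : RGD cs h 2 T n X)
  (hgen : RGD.B cs h T X ⊔ NN cs R.nsys = ⊤) (hG : GG cs h T X = ⊤)

include hG

theorem parabolic_eq (L : Set G) :
    (R.bnPair hgen).parabolic L = PJ cs h T X {i | n i ∈ (R.bnPair hgen).parabolic L} := by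
  have h1 : RGD.B cs h T X ≤ (R.bnPair hgen).parabolic L := B_le_parabolic (R.bnPair hgen) L
  rw [← inf_eq_PJ R h1, hG, inf_top_eq]

omit hG in
include R in
/-- **The involutions of `P_J / Rad P_J` lift** if `Rad P_J ≤ B`. -/
theorem lift_PJ (U' : Sylow 2 G) (hU' : (U' : Subgroup G) = RGD.Sup X (RGD.Pos cs h)) (J : Set I) (N : Subgroup G)
    (hNJ : N = PJ cs h T X J) (hR : radIn N ≤ RGD.B cs h T X)
    (q : N ⧸ solvableRadical N) (hq : orderOf q = 2) :
    ∃ m : N, orderOf m = 2 ∧ (m : N ⧸ solvableRadical N) = q := by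
  classical
  have : Fact (Nat.Prime 2) := ⟨Nat.prime_two⟩
  have hBN : RGD.B cs h T X ≤ N := by rw [hNJ]; exact B_le_PJ
  have hUB : RGD.Sup X (RGD.Pos cs h) ≤ RGD.B cs h T X := RGD.U_le_B
  have hUN : (U' : Subgroup G) ≤ N := by rw [hU']; exact hUB.trans hBN
  have hVN : VJ cs h X J ≤ N := by rw [hNJ]; exact VJ_le_PJ
  have hVpg : IsPGroup 2 (VJ cs h X J) := isPGroup_VJ R J
  -- `V_J ≤ Rad`
  have hVR : VJ cs h X J ≤ radIn N := by
    refine le_radIn hVN (fun g hg v hv => ?_) ?_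
    · rw [hNJ] at hg
      exact (Subgroup.mem_normalizer_iff.1 (PJ_le_normalizer_VJ R J hg) v).1 hv
    · have := hVpg.isNilpotent
      infer_instance
  -- `Rad ∩ U_J = 1`
  have hRU : ∀ u ∈ radIn N, u ∈ UJ cs h X J → u = 1 := by
    intro u hu hu'
    obtain ⟨t, ht, v, hv, huv⟩ := mem_TV R (J := J) (c := u) (fun g hg => by
      refine hR (radIn_conj_mem ?_ hu)
      rw [hNJ]; exact hg)
    have hupos : ∀ w ∈ RGD.Sup X (RGD.Pos cs h), ∃ k : ℕ, w ^ 2 ^ k = 1 := by
      intro w hw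
      obtain ⟨k, hk⟩ := U'.isPGroup' ⟨w, by rw [hU']; exact hw⟩
      exact ⟨k, congrArg Subtype.val hk⟩
    have htU : t ∈ RGD.Sup X (RGD.Pos cs h) := by
      have e : t = u * v⁻¹ := by rw [huv]; group
      rw [e]
      exact mul_mem (UJ_le_U J hu') (inv_mem (VJ_le_U J hv))
    have ht1 : t = 1 := by
      obtain ⟨k, hk⟩ := hupos t htU
      have h1 : orderOf t ∣ 2 ^ k := orderOf_dvd_of_pow_eq_one hk
      have h2 : orderOf t ∣ Nat.card T := by
        have := orderOf_dvd_natCard (⟨t, ht⟩ : T)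
        rwa [Subgroup.orderOf_mk] at this
      have h3 := Nat.dvd_gcd h2 h1
      rw [(Nat.Coprime.pow_right k R.tcop : (Nat.card T).Coprime (2 ^ k))] at h3
      exact orderOf_eq_one_iff.1 (Nat.dvd_one.1 h3)
    rw [ht1, one_mul] at huv
    rw [huv] at hu'
    have h4 : v ∈ UJ cs h X J ⊓ VJ cs h X J := ⟨hu', hv⟩
    rw [UJ_inf_VJ R, mem_bot] at h4
    rw [huv, h4]
  -- a conjugate of `q` in the image of `U`
  set π : N →* N ⧸ solvableRadical N := QuotientGroup.mk' _ with hπ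
  have hπs : Function.Surjective π := QuotientGroup.mk'_surjective _
  let U₁ : Sylow 2 N := U'.subtype hUN
  have hU₁ : (U₁ : Subgroup N) = (U' : Subgroup G).subgroupOf N := rfl
  let U₂ : Sylow 2 (N ⧸ solvableRadical N) := U₁.mapSurjective hπs
  have hU₂ : (U₂ : Subgroup (N ⧸ solvableRadical N)) = (U₁ : Subgroup N).map π := rfl
  have hqp : IsPGroup 2 (zpowers q) := IsPGroup.of_card (n := 1) (by rw [Nat.card_zpowers, hq, pow_one])
  obtain ⟨Q, hQ⟩ := hqp.exists_le_sylow
  obtain ⟨a, ha⟩ := MulAction.exists_smul_eq (N ⧸ solvableRadical N) Q U₂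
  have h1 : a * q * a⁻¹ ∈ (U₂ : Subgroup (N ⧸ solvableRadical N)) := by
    rw [← ha, Sylow.coe_subgroup_smul]
    exact ⟨q, hQ (mem_zpowers q), rfl⟩
  rw [hU₂] at h1
  obtain ⟨u, hu, huq⟩ := h1
  have hu' : (u : G) ∈ RGD.Sup X (RGD.Pos cs h) := by rw [← hU']; exact hu
  obtain ⟨w, hw, v, hv, hwv⟩ := (mem_U_iff R (J := J)).1 hu'
  have hwN : w ∈ N := hBN (hUB (UJ_le_U J hw))
  have hwq : π ⟨w, hwN⟩ = a * q * a⁻¹ := by
    rw [← huq]
    have e : (⟨w, hwN⟩ : N) = u * (⟨v, hVN hv⟩ : N)⁻¹ := Subtype.ext (by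
      show w = u * v⁻¹
      rw [hwv]; group)
    rw [e, map_mul, map_inv]
    have h2 : π ⟨v, hVN hv⟩ = 1 := (QuotientGroup.eq_one_iff _).2 (mem_radIn_coe.1 (hVR hv))
    rw [h2, inv_one, mul_one]
  have hw2 : w ^ 2 = 1 := by
    refine hRU _ ?_ (pow_mem hw 2)
    have h2 : π (⟨w, hwN⟩ ^ 2) = 1 := by
      have h3 : q ^ 2 = 1 := by rw [← hq]; exact pow_orderOf_eq_one q
      rw [map_pow, hwq, conj_pow, h3, mul_one, mul_inv_cancel]
    have h3 := (QuotientGroup.eq_one_iff _).1 h2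
    exact mem_radIn_coe.2 h3
  obtain ⟨b, rfl⟩ := hπs a
  refine ⟨b⁻¹ * ⟨w, hwN⟩ * b, ?_, ?_⟩
  · have h3 : π (b⁻¹ * ⟨w, hwN⟩ * b) = q := by rw [map_mul, map_mul, map_inv, hwq]; group
    apply orderOf_eq_prime
    · have e : b⁻¹ * ⟨w, hwN⟩ * b = b⁻¹ * (⟨w, hwN⟩ : N) * b⁻¹⁻¹ := by rw [inv_inv]
      have h4 : (⟨w, hwN⟩ : N) ^ 2 = 1 := Subtype.ext hw2
      rw [e, conj_pow, h4, mul_one, mul_inv_cancel]
    · intro h4
      rw [h4, map_one] at h3
      rw [← h3] at hq
      simp at hq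
  · show π (b⁻¹ * ⟨w, hwN⟩ * b) = q
    rw [map_mul, map_mul, map_inv, hwq]; group

omit hG in
include R in
/-- the index of `B` in a solvable minimal parabolic subgroup is prime to `p` -/
theorem sidx (hr : IsPGroup 2 (RGD.Sup X (RGD.Pos cs h))) {p : ℕ} (hp : p.Prime) (hp5 : 5 ≤ p) (hE : ExpOK 2 X) {s : G}
    (hs : s ∈ (R.bnPair hgen).S) (hsol : Group.IsSolvable ((R.bnPair hgen).parabolic {s})) :
    ¬ p ∣ (R.bnPair hgen).B.relIndex ((R.bnPair hgen).parabolic {s}) := by
  classical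
  have : Fact (Nat.Prime 2) := ⟨Nat.prime_two⟩
  set P := R.bnPair hgen with hP
  intro hdvd
  obtain ⟨i, rfl⟩ : ∃ i, n i = s := hs
  have hs : n i ∈ P.S := mem_S R hgen
  obtain ⟨V, S⟩ := sec_node P hs hsol
  obtain ⟨l, m, hl, hlm⟩ := exists_pow S (trans_node P hs) (B_le_parabolic P _)
  have hcov : ∀ b ∈ P.B, ∃ u ∈ RGD.Sup X (RGD.Pos cs h), u⁻¹ * b ∈ P.N := by
    intro b hb
    obtain ⟨u, hu, hT⟩ := NodeRGD.cover R hb
    exact ⟨u, hu, ⟨1, rp_of_mem hT⟩⟩
  obtain ⟨a, ha⟩ := index_node P (r := 2) (U := RGD.Sup X (RGD.Pos cs h)) RGD.U_le_B hr hcov hs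
  have hpl : p = l := by
    rw [hlm] at hdvd
    exact (Nat.prime_dvd_prime_iff_eq hp hl).1 (hp.dvd_of_dvd_pow hdvd)
  subst hpl
  have ha0 : a ≠ 0 := by
    rintro rfl
    rw [hlm] at ha
    have h1 : p ∣ 2 := by
      have h2 : p ^ m = 2 := by rw [ha]; norm_num
      rw [← h2]
      refine dvd_pow_self p ?_
      rintro rfl
      norm_num at h2
    have h3 := (Nat.prime_dvd_prime_iff_eq hp Nat.prime_two).1 h1
    omega
  rcases num_two hl ha0 (by rw [← ha, hlm]) with rfl | ⟨h3, -⟩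
  · rw [pow_one] at hlm
    have hcyc : IsCyclic (X (sr i)) := by
      refine isCyclic_of_prime S (B_le_parabolic P _) (by rw [hlm]; exact hp)
        (RGD.X_le_B (isRoot_sr cs h i) (sr_nonneg i)) fun x hx hm => ?_
      exact faithful R i hx (hm (n i) (mem_parabolic_self P _))
    rcases hE i with h1 | ⟨u, hu, v, hv, huv⟩
    · obtain ⟨g, hg⟩ := hcyc.exists_generator
      have h2 : orderOf g ∣ 2 := orderOf_dvd_of_pow_eq_one (Subtype.ext (h1 g g.2))
      have h3 : Nat.card (X (sr i)) = orderOf g := (orderOf_eq_card_of_forall_mem_zpowers hg).symm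
      have h4 := index_le R hgen i
      rw [← hP, hlm, h3] at h4
      have h5 := Nat.le_of_dvd (by norm_num) h2
      omega
    · have h1 : (⟨u, hu⟩ : X (sr i)) * ⟨v, hv⟩ = ⟨v, hv⟩ * ⟨u, hu⟩ := by
        obtain ⟨g, hg⟩ := hcyc.exists_generator
        obtain ⟨k, hk⟩ := hg ⟨u, hu⟩
        obtain ⟨k', hk'⟩ := hg ⟨v, hv⟩
        have hk1 : g ^ k = ⟨u, hu⟩ := hk
        have hk2 : g ^ k' = ⟨v, hv⟩ := hk'
        rw [← hk1, ← hk2, ← zpow_add, ← zpow_add, add_comm]
      exact huv (congrArg Subtype.val h1)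
  · omega

end Rgd

section Final

open CoxeterSystem Cfsg.Agent.ChevalleyStructure.CoxeterGeom Cfsg.Agent.Tits.Roots
  Cfsg.Agent.Nodes.Reps Cfsg.Agent.Nodes.BNOf Cfsg.Agent.Nodes.LeviDec Cfsg.Agent.Nodes.Bruhat
  Cfsg.Agent.KFacts.RgdCharP Cfsg.Agent.KFacts.RgdVJ Cfsg.Agent.KFacts.RgdFilt Cfsg.Agent.KFacts.RgdBorelTits
  Cfsg.Agent.KFacts.RgdLieCharP

/-- **`¬ NS x → RCP P x`.** -/
theorem rcp_of_not_ns {G : Type u} [Group G] {I : Type*} [Fintype I] [DecidableEq I] {M : CoxeterMatrix I}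
    {W : Type*} [Group W] {cs : CoxeterSystem M W} {C : I → I → ℤ} {h : IsCartan M C} {T : Subgroup G} {n : I → G}
    {X : (I → ℤ) → Subgroup G} [Finite W] [Finite G] (R : RGD cs h 2 T n X)
    (hgen : RGD.B cs h T X ⊔ NN cs R.nsys = ⊤) (hG : GG cs h T X = ⊤)
    (U' : Sylow 2 G) (hU' : (U' : Subgroup G) = RGD.Sup X (RGD.Pos cs h)) {p : ℕ} [hp : Fact p.Prime] (hp5 : 5 ≤ p)
    (hI : IH.{u} p (Nat.card G)) (hF : Sec.Five.{u}) {x : MulAut G} (hx : orderOf x = p) (hns : ¬ NS x) :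
    RCP (R.bnPair hgen) x := by
  intro g L hLS hLt hiv hrad
  have e : cx x g = (MulAut.conj g)⁻¹ * x * ((MulAut.conj g)⁻¹)⁻¹ := by rw [inv_inv]; rfl
  have h1 : orderOf (cx x g) = p := by
    rw [e, ← hx]
    exact orderOf_injective (MulAut.conj (MulAut.conj g)⁻¹).toMonoidHom (MulAut.conj (MulAut.conj g)⁻¹).injective x
  have h2 : ¬ NS (cx x g) := fun h => hns (ns_of_conj (g := (MulAut.conj g)⁻¹) (by rw [← e]; exact h))
  refine Sec.trivial_of_lift hI hF hp5 h1 h2 hLt hiv fun q hq => ?_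
  exact lift_PJ R U' hU' _ _ (parabolic_eq R hgen hG L) hrad q hq

/-- **Characteristic two**: `FixR 2 x → NS x`. -/
theorem ns_of_fixR {G : Type u} [Group G] [Finite G] [IsSimpleGroup G] (hG : HasFiltE 2 G)
    (hsol : ∀ U : Sylow 2 G, Group.IsSolvable (normalizer ((U : Subgroup G) : Set G)))
    {p : ℕ} [hpF : Fact p.Prime] (hp5 : 5 ≤ p) (hI : IH.{u} p (Nat.card G)) (hFive : Sec.Five.{u})
    {x : MulAut G} (hx : orderOf x = p) (hFx : FixR 2 x) : NS x := by
  classical
  have : Fact (Nat.Prime 2) := ⟨Nat.prime_two⟩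
  by_contra hns
  obtain ⟨l, M, A, h, T, n, X, R, F, hW, hX, hF, hl, hE⟩ := hG
  have hgen := Cfsg.Agent.Nodes.RGDLib.rgd_gen_of_G1 R hX
  have hc : ∃ a b : G, a * b ≠ b * a := by
    by_contra hcon
    push Not at hcon
    have h1 : normalizer ((R.bnPair hgen).B : Set G) = (R.bnPair hgen).B := by
      have := Cfsg.Agent.S0312.result (R.bnPair hgen) (J := ∅) (Set.empty_subset _)
      rwa [parabolic_empty] at this
    refine not_mem_B (R.bnPair hgen) (mem_S R hgen (i := ⟨0, by omega⟩)) ?_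
    rw [← h1, Subgroup.mem_normalizer_iff]
    intro z
    rw [hcon, inv_mul_cancel_left]
  have hc' := center_eq_bot hc
  have hGG : GG M.toCoxeterSystem h T X = ⊤ := by
    rw [eq_top_iff, ← hX]
    exact le_sup_right
  set P := R.bnPair hgen with hP
  have i₀ : Fin l := ⟨0, by omega⟩
  have hne : P.S.Nonempty := ⟨n i₀, i₀, rfl⟩
  have hcore := Cfsg.Agent.Tits.OfBN.normalCore_eq_bot P hne
  have hsplit := SplitRGD.split_of_rgd Fact.out R hgen hcore
  obtain ⟨U', hU'⟩ := exists_sylow hsplit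
  have hN : normalizer ((U' : Subgroup G) : Set G) = P.B := by rw [hU']; exact hsplit.normalizer_eq
  have hnsn : ∀ V : Subgroup G, V ≠ ⊥ → V ≠ ⊤ → normalizer (V : Set G) ≠ ⊤ := by
    intro V h1 h2 h3
    rcases (Subgroup.normalizer_eq_top_iff.1 h3).eq_bot_or_eq_top with h4 | h4
    · exact h1 h4
    · exact h2 h4
  have hnB : n i₀ ∉ P.B := not_mem_B P (mem_S R hgen)
  have hnp : ¬ IsPGroup 2 G := by
    intro hG
    obtain ⟨k, hk⟩ := hG (n i₀)
    have h1 : (⊤ : Subgroup G) = (U' : Subgroup G) := by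
      have h2 : IsPGroup 2 (⊤ : Subgroup G) := hG.of_equiv Subgroup.topEquiv.symm
      exact U'.is_maximal' h2 le_top
    apply hnB
    rw [← hN]
    refine le_normalizer ?_
    rw [← h1]
    trivial
  obtain ⟨M₀, g₀, h1, h2, h3⟩ := exists_par R hgen (fun K hK h1 => borel_tits_of_filt hF hX hK h1) hnsn hnp hFx
  have hRCP : RCP P x := rcp_of_not_ns R hgen hGG U' hU' hp5 hI hFive hx hns
  have hx1 : x = 1 := by
    refine eq_one2 P hp5 U' hN ?_ hcore hRCP (by rw [← hx]; exact pow_orderOf_eq_one x) ?_ ?_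
      (rig R hgen (conn_of_simple R hX hc') Fact.out hp5) ?_ h1 h2 h3
    · intro b hb
      rw [hU']
      exact hsplit.cover b hb
    · rw [← hN]
      exact hsol U'
    · rw [hP, ncard_S, Fintype.card_fin]
      exact hl
    · intro s hs hs'
      exact sidx R hgen hsplit.isP Fact.out hp5 (hE rfl) hs hs'
  rw [hx1, orderOf_one] at hx
  omega

end Final

end Cfsg.Agent.H459.Inv.Par
end
end

-- part: H459/Inv/NodeX
section
set_option linter.all false
open scoped Cfsg.Agent.FastGrp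

/-!
# A moved chamber next to a fixed one (helper459, S3830, O5)

* `exists_node` : `x` of prime order `p ≥ 5` fixes `B`; some conjugate of `x` fixes `B` and `P_i` and moves a chamber of
  `P_i / B`.
-/

set_option autoImplicit false
set_option linter.unusedSectionVars false

namespace Cfsg.Agent.H459.Inv.NodeX

open Cfsg Subgroup Cfsg.Agent.H459.Gallery Cfsg.Agent.H459.RgdRad Cfsg.Agent.H459.Inv.Par
open Cfsg.Agent.Schreier.BNSch Cfsg.Agent.FixBN
open CoxeterSystem Cfsg.Agent.ChevalleyStructure.CoxeterGeom Cfsg.Agent.Tits.Roots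
  Cfsg.Agent.Nodes.Reps Cfsg.Agent.Nodes.BNOf Cfsg.Agent.Nodes.LeviDec Cfsg.Agent.Nodes.Bruhat
  Cfsg.Agent.KFacts.RgdCharP Cfsg.Agent.KFacts.RgdVJ

variable {I W Y : Type*} [Fintype I] [DecidableEq I] [Group W] [Group Y] {M : CoxeterMatrix I}
  {cs : CoxeterSystem M W} {A : I → I → ℤ} {h : IsCartan M A} {r : ℕ} {T : Subgroup Y} {n : I → Y}
  {X : (I → ℤ) → Subgroup Y}

theorem GG_eq_top (hG : Nodes.RGDLib.G1 cs h X = ⊤) : GG cs h T X = ⊤ := by
  rw [eq_top_iff, ← hG]
  exact le_sup_right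

/-- the minimal parabolic subgroups -/
theorem parabolic_single (R : RGD cs h r T n X) [Finite W] [Finite Y] (hgen : RGD.B cs h T X ⊔ NN cs R.nsys = ⊤)
    (hG : Nodes.RGDLib.G1 cs h X = ⊤) (i : I) : (R.bnPair hgen).parabolic {n i} = PJ cs h T X {i} := by
  have h1 : RGD.B cs h T X ≤ (R.bnPair hgen).parabolic {n i} := B_le_parabolic (R.bnPair hgen) _
  have h2 : (R.bnPair hgen).parabolic {n i} = PJ cs h T X {j | n j ∈ (R.bnPair hgen).parabolic {n i}} := by
    rw [← inf_eq_PJ R h1, GG_eq_top hG, inf_top_eq]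
  rw [h2]
  congr 1
  ext j
  constructor
  · intro hj
    have h3 : (R.bnPair hgen).parabolic {n j} ≤ (R.bnPair hgen).parabolic {n i} := by
      refine sup_le (B_le_parabolic _ _) ?_
      rw [closure_le]
      rintro _ rfl
      exact hj
    rw [parabolic_le_iff (R.bnPair hgen) (Set.singleton_subset_iff.2 (mem_S R hgen))
      (Set.singleton_subset_iff.2 (mem_S R hgen))] at h3
    exact R.n_injective (h3 rfl)
  · rintro rfl
    exact mem_parabolic_self _ _

/-- **A moved chamber.** -/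
theorem exists_node (R : RGD cs h r T n X) [Finite W] [Finite Y] [IsSimpleGroup Y] [Fact r.Prime]
    (hG : Nodes.RGDLib.G1 cs h X = ⊤) (hconn : Conn M) {p : ℕ} [hpF : Fact p.Prime] (hp : 5 ≤ p) {x : MulAut Y}
    (hx : orderOf x = p) (hB : Iv x (RGD.B cs h T X)) :
    ∃ (g : Y) (i : I), Iv (cx x g) (RGD.B cs h T X) ∧ Iv (cx x g) (PJ cs h T X {i}) ∧
      ∃ m ∈ PJ cs h T X {i}, m⁻¹ * cx x g m ∉ RGD.B cs h T X := by
  classical
  have hgen := Nodes.RGDLib.rgd_gen_of_G1 R hG
  set P := R.bnPair hgen with hP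
  rcases isEmpty_or_nonempty I with hI | ⟨⟨i₀⟩⟩
  · exfalso
    have h1 : Nodes.RGDLib.G1 cs h X = ⊥ := by
      unfold Nodes.RGDLib.G1 RGD.Sup
      rw [iSup_eq_bot]
      intro z
      obtain ⟨w, i, -⟩ := z.2
      exact hI.elim i
    rw [hG] at h1
    exact top_ne_bot h1
  by_contra hcon
  push Not at hcon
  have hne : P.S.Nonempty := ⟨n i₀, i₀, rfl⟩
  have hcore := Cfsg.Agent.Tits.OfBN.normalCore_eq_bot P hne
  have hnode : ∀ g : Y, Iv (cx x g) P.B → ∀ s ∈ P.S, ∀ k ∈ P.parabolic {s}, k⁻¹ * cx x g k ∈ P.B := by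
    rintro g hgB _ ⟨i, rfl⟩ k hk
    have h2 : (cx x g) ^ p = 1 := by
      have e : cx x g = (MulAut.conj g)⁻¹ * x * ((MulAut.conj g)⁻¹)⁻¹ := by rw [inv_inv]; rfl
      rw [e, conj_pow, ← hx, pow_orderOf_eq_one, mul_one, mul_inv_cancel]
    have h3 := rig R hgen hconn hpF.out hp (cx x g) hgB ⟨1, one_mem _, by rw [h2, map_one]⟩ (n i) ⟨i, rfl⟩
    have h4 := parabolic_single R hgen hG i
    rw [← hP] at h4
    rw [h4] at h3 hk
    exact hcon g i hgB h3 k hk
  have hall := all_fixed2 P hnode hB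
  have h1 := eq_one P hcore hall
  rw [h1, orderOf_one] at hx
  omega

end Cfsg.Agent.H459.Inv.NodeX
end
end
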